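import Groth.Agent.FpqcMod.Alg
import Groth.Agent.QCoh.PullbackBC
import Groth.Agent.EtLC12.AssocUnit
import Mathlib.AlgebraicGeometry.Morphisms.Flat

/-!
# Sections of inverse images along a finite flat affine covering of an affine open
-/

universe u

set_option autoImplicit false
set_option backward.isDefEq.respectTransparency false
set_option backward.isDefEq.respectTransparency.types false
set_option linter.style.haveILetI false

open CategoryTheory CategoryTheory.Limits AlgebraicGeometry TopologicalSpace Opposite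
open scoped TensorProduct

namespace Groth.Agent.FpqcMod

open Groth.Agent.EtLC12.AssocUnit Groth.Agent.QCoh

variable {X S Y : Scheme.{u}} (N : S.Modules)

/-- The composition isomorphism of inverse images. -/
noncomputable def τ (a : Y ⟶ X) (f : X ⟶ S) (q : Y ⟶ S) (h : a ≫ f = q) :
    (Scheme.Modules.pullback a).obj ((Scheme.Modules.pullback f).obj N) ≅ (Scheme.Modules.pullback q).obj N :=
  (Scheme.Modules.pullbackComp a f).app N ≪≫ (Scheme.Modules.pullbackCongr h).app N

/-- Pullback of sections of an inverse image. -/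
noncomputable def T (a : Y ⟶ X) (f : X ⟶ S) (q : Y ⟶ S) (h : a ≫ f = q) {W : X.Opens} {U : Y.Opens}
    (hle : U ≤ a ⁻¹ᵁ W) (z : Γ((Scheme.Modules.pullback f).obj N, W)) :
    Γ((Scheme.Modules.pullback q).obj N, U) :=
  (τ N a f q h).hom.app U (pullSec a _ hle z)

variable (a : Y ⟶ X) (f : X ⟶ S) (q : Y ⟶ S) (h : a ≫ f = q) {W : X.Opens} {U : Y.Opens} (hle : U ≤ a ⁻¹ᵁ W)

lemma T_add (z z' : Γ((Scheme.Modules.pullback f).obj N, W)) :
    T N a f q h hle (z + z') = T N a f q h hle z + T N a f q h hle z' := by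
  rw [T, T, T, pullSec_add, map_add]

lemma T_zero : T N a f q h hle 0 = 0 := by
  have := T_add N a f q h hle 0 0
  rw [add_zero] at this
  exact (add_eq_left).1 this.symm

lemma T_smul (r : Γ(X, W)) (z : Γ((Scheme.Modules.pullback f).obj N, W)) :
    T N a f q h hle (r • z) = a.appLE W U hle r • T N a f q h hle z := by
  rw [T, T, pullSec_smul, Scheme.Modules.Hom.app_smul]

lemma T_map {W' : X.Opens} {U' : Y.Opens} (i : W' ⟶ W) (hU : U' ≤ U) (hle' : U' ≤ a ⁻¹ᵁ W')
    (z : Γ((Scheme.Modules.pullback f).obj N, W)) :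
    T N a f q h hle' (((Scheme.Modules.pullback f).obj N).presheaf.map i.op z) =
      ((Scheme.Modules.pullback q).obj N).presheaf.map (homOfLE hU).op (T N a f q h hle z) := by
  rw [T, T, ← map_app_comm]
  congr 1
  show ((Scheme.Modules.pullback a).obj _).presheaf.map _ (usec a _ W' _) =
    ((Scheme.Modules.pullback a).obj _).presheaf.map _ (((Scheme.Modules.pullback a).obj _).presheaf.map _ (usec a _ W z))
  rw [usec_map]
  exact (map_map _ _ _).trans (map_map (homOfLE hU) (homOfLE hle) _).symm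

lemma T_pullSec {O : S.Opens} (hW : W ≤ f ⁻¹ᵁ O) (x : Γ(N, O)) :
    T N a f q h hle (pullSec f N hW x) =
      pullSec q N (show U ≤ q ⁻¹ᵁ O from h ▸ hle.trans ((Opens.map a.base).map (homOfLE hW)).le) x := by
  subst h
  have hτ : (τ N a f _ rfl).hom = (Scheme.Modules.pullbackComp a f).hom.app N := by
    simp [τ, Scheme.Modules.pullbackCongr]
  rw [T, hτ]
  show ((Scheme.Modules.pullbackComp a f).hom.app N).app U
    (((Scheme.Modules.pullback a).obj _).presheaf.map (homOfLE hle).op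
      (usec a _ W (((Scheme.Modules.pullback f).obj N).presheaf.map (homOfLE hW).op (usec f N O x)))) = _
  rw [usec_map]
  erw [map_app_comm, map_app_comm]
  refine (congrArg _ (congrArg _ (usec_comp a f N O x))).trans ?_
  exact map_map _ _ _

lemma spec_map_appLE {R : CommRingCat.{u}} {V : S.Opens} (hV : IsAffineOpen V) (g : Γ(S, V) ⟶ R)
    (e : (⊤ : (Spec R).Opens) ≤ (Spec.map g ≫ hV.fromSpec) ⁻¹ᵁ V) :
    (Spec.map g ≫ hV.fromSpec).appLE V ⊤ e = g ≫ (Scheme.ΓSpecIso R).inv := by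
  rw [Scheme.Hom.comp_appLE, hV.fromSpec_app_self, Category.assoc, Scheme.Hom.map_appLE,
    Scheme.ΓSpecIso_inv_naturality g]
  rw [Scheme.Hom.appLE, Scheme.Hom.appTop]
  simp

section Cover

variable {ι : Type u} {Xs : ι → Scheme.{u}} (fs : ∀ i, Xs i ⟶ S) [∀ i, Flat (fs i)] (hN : Coh.IsQCoh N)
  {V : S.Opens} (hV : IsAffineOpen V)
  {J : Type} [Finite J] (φ : J → ι) (Ws : ∀ j, (Xs (φ j)).Opens) (hWs : ∀ j, IsAffineOpen (Ws j))
  (hles : ∀ j, Ws j ≤ (fs (φ j)) ⁻¹ᵁ V) (hcov : ∀ y ∈ V, ∃ j, ∃ w ∈ Ws j, (fs (φ j)).base w = y)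

include hV hWs hcov in
lemma exists_map_ne_top (p : Ideal Γ(S, V)) (hp : p.IsMaximal) :
    ∃ j, p.map ((fs (φ j)).appLE V (Ws j) (hles j)).hom ≠ ⊤ := by
  let x : Spec Γ(S, V) := ⟨p, hp.isPrime⟩
  have hy : hV.fromSpec.base x ∈ V := by
    have : hV.fromSpec.base x ∈ hV.fromSpec.opensRange := ⟨x, rfl⟩
    rwa [hV.opensRange_fromSpec] at this
  obtain ⟨j, w, hw, hwy⟩ := hcov _ hy
  have hw' : w ∈ (hWs j).fromSpec.opensRange := by rwa [(hWs j).opensRange_fromSpec]
  obtain ⟨P, rfl⟩ := hw'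
  have hP : (Spec.map ((fs (φ j)).appLE V (Ws j) (hles j))).base P = x := by
    apply hV.fromSpec.isOpenEmbedding.injective
    rw [← hwy]
    exact congrArg (fun t => t.base P) (exists_chart_map (fs (φ j)) hV (hWs j) (hles j))
  refine ⟨j, fun htop => P.isPrime.ne_top (top_le_iff.1 (htop ▸ ?_))⟩
  rw [Ideal.map_le_iff_le_comap]
  exact (congrArg PrimeSpectrum.asIdeal hP).ge

include hN hV hWs hcov in
theorem affine_sep_glue :
    (∀ x : Γ(N, V), (∀ j, pullSec (fs (φ j)) N (hles j) x = 0) → x = 0) ∧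
    ∀ t : ∀ j, Γ((Scheme.Modules.pullback (fs (φ j))).obj N, Ws j),
      (∀ (Y : Scheme.{u}) (j k : J) (a : Y ⟶ Xs (φ j)) (b : Y ⟶ Xs (φ k)) (q : Y ⟶ S)
        (ha : a ≫ fs (φ j) = q) (hb : b ≫ fs (φ k) = q) (U : Y.Opens) (hUa : U ≤ a ⁻¹ᵁ Ws j)
        (hUb : U ≤ b ⁻¹ᵁ Ws k), T N a _ q ha hUa (t j) = T N b _ q hb hUb (t k)) →
      ∃ x : Γ(N, V), ∀ j, pullSec (fs (φ j)) N (hles j) x = t j := by
  let R := Γ(S, V)
  let M := Γ(N, V)
  let B : J → Type u := fun j => Γ(Xs (φ j), Ws j)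
  let P : J → Type u := fun j => Γ((Scheme.Modules.pullback (fs (φ j))).obj N, Ws j)
  let g : ∀ j, R ⟶ Γ(Xs (φ j), Ws j) := fun j => (fs (φ j)).appLE V (Ws j) (hles j)
  letI : ∀ j, CommRing (B j) := fun j => inferInstanceAs (CommRing Γ(Xs (φ j), Ws j))
  letI : ∀ j, Algebra R (B j) := fun j => (g j).hom.toAlgebra
  haveI : ∀ j, Module.Flat R (B j) := fun j =>
    HasRingHomProperty.appLE @Flat (fs (φ j)) inferInstance ⟨V, hV⟩ ⟨Ws j, hWs j⟩ (hles j)
  letI : ∀ j, Module R (P j) := fun j => Module.compHom _ (g j).hom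
  letI : ∀ j, Module (B j) (P j) := fun j =>
    inferInstanceAs (Module Γ(Xs (φ j), Ws j) Γ((Scheme.Modules.pullback (fs (φ j))).obj N, Ws j))
  haveI : ∀ j, IsScalarTower R (B j) (P j) := fun j => .of_algebraMap_smul fun _ _ => rfl
  let l : ∀ j, M →ₗ[R] P j := fun j =>
    { toFun := pullSec (fs (φ j)) N (hles j)
      map_add' := pullSec_add _ N (hles j)
      map_smul' := fun r x => pullSec_smul (fs (φ j)) N (hles j) r x }
  have hl : ∀ j, IsBaseChange (B j) (l j) := fun j =>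
    isBaseChange_pullback hV (fs (φ j)) (hWs j) hN (hles j) (fun _ => rfl) (l j) fun _ => rfl
  have hsurj : ∀ p : Ideal R, p.IsMaximal → ∃ j, p.map (algebraMap R (B j)) ≠ ⊤ := fun p hp =>
    exists_map_ne_top fs hV φ Ws hWs hles hcov p hp
  have he1 : ∀ j x, (hl j).equiv (1 ⊗ₜ[R] x) = pullSec (fs (φ j)) N (hles j) x := fun j x =>
    ((hl j).equiv_tmul 1 x).trans (one_smul _ _)
  refine ⟨fun x hx => eq_zero_of_one_tmul B hsurj x fun j => (hl j).equiv.injective
    (((he1 j x).trans (hx j)).trans (map_zero _).symm), fun t ht => ?_⟩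
  obtain ⟨x, hx⟩ := exists_one_tmul B hsurj (M := M) (fun j => (hl j).equiv.symm (t j)) fun j k => by
    let C : CommRingCat.{u} := CommRingCat.of (B k ⊗[R] B j)
    let Y : Scheme.{u} := Spec C
    let i₁ : Γ(Xs (φ k), Ws k) ⟶ C :=
      CommRingCat.ofHom (Algebra.TensorProduct.includeLeft : B k →ₐ[R] B k ⊗[R] B j).toRingHom
    let i₂ : Γ(Xs (φ j), Ws j) ⟶ C :=
      CommRingCat.ofHom (Algebra.TensorProduct.includeRight : B j →ₐ[R] B k ⊗[R] B j).toRingHom
    let a : Y ⟶ Xs (φ k) := Spec.map i₁ ≫ (hWs k).fromSpec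
    let b : Y ⟶ Xs (φ j) := Spec.map i₂ ≫ (hWs j).fromSpec
    let q : Y ⟶ S := Spec.map (g k ≫ i₁) ≫ hV.fromSpec
    have ha : a ≫ fs (φ k) = q := by
      simp only [a, q, Spec.map_comp, Category.assoc, g, exists_chart_map (fs (φ k)) hV (hWs k) (hles k)]
    have hb : b ≫ fs (φ j) = q := by
      have hg : g k ≫ i₁ = g j ≫ i₂ := CommRingCat.hom_ext (RingHom.ext fun r =>
        ((Algebra.TensorProduct.includeLeft : B k →ₐ[R] B k ⊗[R] B j).commutes r).trans
        ((Algebra.TensorProduct.includeRight : B j →ₐ[R] B k ⊗[R] B j).commutes r).symm)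
      simp only [b, q, hg, Spec.map_comp, Category.assoc, g, exists_chart_map (fs (φ j)) hV (hWs j) (hles j)]
    have hUa : (⊤ : Y.Opens) ≤ a ⁻¹ᵁ Ws k := fun p _ => by
      show (hWs k).fromSpec.base _ ∈ Ws k
      exact (hWs k).range_fromSpec.subset ⟨_, rfl⟩
    have hUb : (⊤ : Y.Opens) ≤ b ⁻¹ᵁ Ws j := fun p _ => by
      show (hWs j).fromSpec.base _ ∈ Ws j
      exact (hWs j).range_fromSpec.subset ⟨_, rfl⟩
    have hUq : (⊤ : Y.Opens) ≤ q ⁻¹ᵁ V := fun p _ => by
      show hV.fromSpec.base _ ∈ V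
      exact hV.range_fromSpec.subset ⟨_, rfl⟩
    let Q : Type u := Γ((Scheme.Modules.pullback q).obj N, ⊤)
    letI : Algebra R Γ(Y, ⊤) := (q.appLE V ⊤ hUq).hom.toAlgebra
    letI : Module R Q := Module.compHom _ (q.appLE V ⊤ hUq).hom
    haveI : IsScalarTower R Γ(Y, ⊤) Q := .of_algebraMap_smul fun _ _ => rfl
    let lq : M →ₗ[R] Q :=
      { toFun := pullSec q N hUq
        map_add' := pullSec_add q N hUq
        map_smul' := fun r x => pullSec_smul q N hUq r x }
    have hlq : IsBaseChange Γ(Y, ⊤) lq :=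
      isBaseChange_pullback hV q (isAffineOpen_top Y) hN hUq (fun _ => rfl) lq fun _ => rfl
    let eC : (B k ⊗[R] B j) ≃ₐ[R] Γ(Y, ⊤) :=
      AlgEquiv.ofRingEquiv (f := (Scheme.ΓSpecIso C).commRingCatIsoToRingEquiv.symm) fun r =>
        (ConcreteCategory.congr_hom (spec_map_appLE hV (g k ≫ i₁) hUq) r).symm
    let Φ : B k ⊗[R] (B j ⊗[R] M) ≃ₗ[R] Q :=
      ((TensorProduct.assoc R (B k) (B j) M).symm.trans
        (TensorProduct.congr eC.toLinearEquiv (LinearEquiv.refl R M))).trans (hlq.equiv.restrictScalars R)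
    have hΦ : ∀ c d x, Φ (c ⊗ₜ (d ⊗ₜ x)) = eC (c ⊗ₜ d) • pullSec q N hUq x := fun c d x =>
      hlq.equiv_tmul (eC (c ⊗ₜ d)) x
    have hea : ∀ c, a.appLE (Ws k) ⊤ hUa c = eC (c ⊗ₜ 1) := fun c =>
      ConcreteCategory.congr_hom (spec_map_appLE (hWs k) i₁ hUa) c
    have heb : ∀ d, b.appLE (Ws j) ⊤ hUb d = eC (1 ⊗ₜ d) := fun d =>
      ConcreteCategory.congr_hom (spec_map_appLE (hWs j) i₂ hUb) d
    have h1 : ∀ w : B k ⊗[R] M, Φ (LinearMap.lTensor (B k) (TensorProduct.mk R (B j) M 1) w) =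
        T N a _ q ha hUa ((hl k).equiv w) := fun w => by
      induction w using TensorProduct.induction_on with
      | zero => simp only [map_zero]; exact (T_zero N a _ q ha hUa).symm
      | tmul c x =>
        rw [LinearMap.lTensor_tmul, TensorProduct.mk_apply, hΦ, IsBaseChange.equiv_tmul]
        refine Eq.trans ?_ (T_smul N a _ q ha hUa c _).symm
        rw [hea]
        exact congrArg _ (T_pullSec N a _ q ha hUa (hles k) x).symm
      | add u v hu hv => simp only [map_add, hu, hv]; exact (T_add N a _ q ha hUa _ _).symm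
    have h2 : ∀ w : B j ⊗[R] M, Φ ((1 : B k) ⊗ₜ[R] w) = T N b _ q hb hUb ((hl j).equiv w) := fun w => by
      induction w using TensorProduct.induction_on with
      | zero => simp only [TensorProduct.tmul_zero, map_zero]; exact (T_zero N b _ q hb hUb).symm
      | tmul d x =>
        rw [hΦ, IsBaseChange.equiv_tmul]
        refine Eq.trans ?_ (T_smul N b _ q hb hUb d _).symm
        rw [heb]
        exact congrArg _ (T_pullSec N b _ q hb hUb (hles j) x).symm
      | add u v hu hv =>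
        simp only [TensorProduct.tmul_add, map_add, hu, hv]; exact (T_add N b _ q hb hUb _ _).symm
    refine Φ.injective ?_
    rw [h1, h2, LinearEquiv.apply_symm_apply, LinearEquiv.apply_symm_apply]
    exact ht Y k j a b q ha hb ⊤ hUa hUb
  exact ⟨x, fun j => (he1 j x).symm.trans ((congrArg _ (hx j)).trans ((hl j).equiv.apply_symm_apply _))⟩

end Cover

end Groth.Agent.FpqcMod
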