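import Mathlib.RingTheory.Flat.Basic
import Mathlib.RingTheory.TensorProduct.Maps
import Mathlib.LinearAlgebra.TensorProduct.Pi
import Mathlib.LinearAlgebra.TensorProduct.Quotient
import Mathlib.RingTheory.Ideal.Maps

/-!
# The Amitsur complex of a finite family of flat algebras with jointly surjective spectra
-/

universe u

set_option autoImplicit false

open TensorProduct

namespace Groth.Agent.FpqcMod

variable {R : Type u} [CommRing R] {n : Type} (B : n → Type u) [∀ j, CommRing (B j)] [∀ j, Algebra R (B j)]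
  [∀ j, Module.Flat R (B j)] (hsurj : ∀ p : Ideal R, p.IsMaximal → ∃ j, p.map (algebraMap R (B j)) ≠ ⊤)

include hsurj

theorem eq_zero_of_one_tmul {M : Type u} [AddCommGroup M] [Module R M] (m : M)
    (h : ∀ j, (1 : B j) ⊗ₜ[R] m = 0) : m = 0 := by
  by_contra hm
  let f : R →ₗ[R] M := LinearMap.toSpanSingleton R M m
  let I : Ideal R := LinearMap.ker f
  have hI : I ≠ ⊤ := fun e => hm (by
    have h1 : (1 : R) ∈ I := e ▸ Submodule.mem_top
    simpa [I, f] using h1)
  obtain ⟨p, hp, hIp⟩ := Ideal.exists_le_maximal I hI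
  obtain ⟨j, hj⟩ := hsurj p hp
  refine hj (top_le_iff.1 ?_)
  let g : R ⧸ I →ₗ[R] M := Submodule.liftQ I f le_rfl
  have hg : Function.Injective g := LinearMap.ker_eq_bot.1 (Submodule.ker_liftQ_eq_bot _ _ _ le_rfl)
  have hinj := Module.Flat.lTensor_preserves_injective_linearMap (M := B j) g hg
  have h0 : (1 : B j) ⊗ₜ[R] (Ideal.Quotient.mk I 1 : R ⧸ I) = 0 := hinj (by
    rw [map_zero, LinearMap.lTensor_tmul]
    show (1 : B j) ⊗ₜ[R] ((1 : R) • m) = 0
    rw [one_smul]; exact h j)
  have h1 := congrArg (TensorProduct.tensorQuotEquivQuotSMul (B j) I) h0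
  rw [map_zero] at h1
  erw [TensorProduct.tensorQuotEquivQuotSMul_tmul_mk] at h1
  rw [one_smul, Submodule.Quotient.mk_eq_zero] at h1
  have h2 : (I.map (algebraMap R (B j))).restrictScalars R = I • (⊤ : Submodule R (B j)) :=
    (Ideal.smul_top_eq_map I).symm
  rw [← h2] at h1
  exact fun b _ => (Ideal.eq_top_iff_one (p.map (algebraMap R (B j)))).2
    (Ideal.map_mono hIp h1) ▸ Submodule.mem_top

/-- A compatible family comes from the base. -/
theorem exists_one_tmul [Finite n] {M : Type u} [AddCommGroup M] [Module R M] (z : ∀ j, B j ⊗[R] M)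
    (h : ∀ j k, LinearMap.lTensor (B k) (TensorProduct.mk R (B j) M 1) (z k) = (1 : B k) ⊗ₜ[R] z j) :
    ∃ m : M, ∀ j, (1 : B j) ⊗ₜ[R] m = z j := by
  classical
  haveI := Fintype.ofFinite n
  let g : M →ₗ[R] (∀ j, B j ⊗[R] M) := LinearMap.pi fun j => TensorProduct.mk R (B j) M 1
  suffices hz : z ∈ LinearMap.range g by
    obtain ⟨m, hm⟩ := hz
    exact ⟨m, fun j => congrFun hm j⟩
  rw [← Submodule.Quotient.mk_eq_zero (LinearMap.range g)]
  refine eq_zero_of_one_tmul B hsurj _ fun k => ?_
  let e := TensorProduct.piRight R R (B k) (fun j => B j ⊗[R] M)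
  have he : ∀ w : B k ⊗[R] M, e (g.lTensor (B k) w) =
      fun j => LinearMap.lTensor (B k) (TensorProduct.mk R (B j) M 1) w := fun w => by
    induction w using TensorProduct.induction_on with
    | zero => funext j; simp only [map_zero, Pi.zero_apply]
    | tmul b m => funext j; simp [e, g]
    | add a b ha hb => funext j; simp only [map_add, ha, hb, Pi.add_apply]
  have hk : g.lTensor (B k) (z k) = (1 : B k) ⊗ₜ[R] z := e.injective (by
    rw [he]
    funext j
    rw [h j k]
    simp [e])
  show (1 : B k) ⊗ₜ[R] (LinearMap.range g).mkQ z = 0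
  rw [← LinearMap.lTensor_tmul, ← hk, ← LinearMap.comp_apply, ← LinearMap.lTensor_comp,
    LinearMap.range_mkQ_comp, LinearMap.lTensor_zero, LinearMap.zero_apply]

end Groth.Agent.FpqcMod
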