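import Groth.Agent.FpqcMod.Affine
import Mathlib.AlgebraicGeometry.Sites.Fpqc

/-!
# Sections of quasi-coherent modules form an fpqc sheaf
-/

universe u

set_option autoImplicit false
set_option backward.isDefEq.respectTransparency false
set_option backward.isDefEq.respectTransparency.types false
set_option linter.style.haveILetI false

open CategoryTheory CategoryTheory.Limits AlgebraicGeometry TopologicalSpace Opposite

namespace Groth.Agent.FpqcMod

open Groth.Agent.EtLC12.AssocUnit Groth.Agent.QCoh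

variable {S : Scheme.{u}} {ι : Type u} {X : ι → Scheme.{u}} (f : ∀ i, X i ⟶ S)
  (hf : Presieve.ofArrows X f ∈ Scheme.fpqcPrecoverage S)

include hf

theorem flat_of_mem (i : ι) : Flat (f i) :=
  (Scheme.presieve₀_mem_precoverage_iff (⟨ι, X, f⟩ : PreZeroHypercover.{u} S)).1 hf.2 |>.2 i

theorem exists_cover {V : S.Opens} (hV : IsAffineOpen V) :
    ∃ (m : ℕ) (φ : Fin m → ι) (W : ∀ j, (X (φ j)).Opens), (∀ j, IsAffineOpen (W j)) ∧
      (∀ j, W j ≤ (f (φ j)) ⁻¹ᵁ V) ∧ ∀ y ∈ V, ∃ j, ∃ w ∈ W j, (f (φ j)).base w = y := by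
  haveI : QuasiCompactCover (⟨ι, X, f⟩ : PreZeroHypercover.{u} S) :=
    Scheme.presieve₀_mem_qcPrecoverage_iff.1 hf.1
  obtain ⟨m, φ, W, hW, heq⟩ :=
    QuasiCompactCover.exists_isAffineOpen_of_isCompact (⟨ι, X, f⟩ : PreZeroHypercover.{u} S) (U := V) hV.isCompact
  refine ⟨m, φ, W, hW, fun j w hw => heq.subset (Set.mem_iUnion.2 ⟨j, w, hw, rfl⟩), fun y hy => ?_⟩
  obtain ⟨j, w, hw, hwy⟩ := Set.mem_iUnion.1 (heq.superset hy)
  exact ⟨j, w, hw, hwy⟩

variable (N : S.Modules)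

/-- Compatible families of sections. -/
def Compat (O : S.Opens) (t : ∀ i, Γ((Scheme.Modules.pullback (f i)).obj N, (f i) ⁻¹ᵁ O)) : Prop :=
  ∀ (Y : Scheme.{u}) (i j : ι) (a : Y ⟶ X i) (b : Y ⟶ X j) (q : Y ⟶ S) (ha : a ≫ f i = q) (hb : b ≫ f j = q)
    (U : Y.Opens) (hUa : U ≤ a ⁻¹ᵁ ((f i) ⁻¹ᵁ O)) (hUb : U ≤ b ⁻¹ᵁ ((f j) ⁻¹ᵁ O)),
      T N a _ q ha hUa (t i) = T N b _ q hb hUb (t j)

omit hf in
lemma T_res {Y : Scheme.{u}} {i : ι} (a : Y ⟶ X i) (q : Y ⟶ S) (ha : a ≫ f i = q) {W W' : (X i).Opens}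
    (e : W' ⟶ W) (U : Y.Opens) (hle : U ≤ a ⁻¹ᵁ W') (z : Γ((Scheme.Modules.pullback (f i)).obj N, W)) :
    T N a _ q ha hle (((Scheme.Modules.pullback (f i)).obj N).presheaf.map e.op z) =
      T N a _ q ha (show U ≤ a ⁻¹ᵁ W from hle.trans ((Opens.map a.base).map e).le) z := by
  rw [T_map N a (f i) q ha (hle.trans ((Opens.map a.base).map e).le) e le_rfl hle]
  exact map_id' _ _

omit hf in
lemma pullSec_eq (i : ι) {O : S.Opens} {W : (X i).Opens} (hle : W ≤ (f i) ⁻¹ᵁ O) (x : Γ(N, O)) :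
    pullSec (f i) N hle x =
      ((Scheme.Modules.pullback (f i)).obj N).presheaf.map (homOfLE hle).op (usec (f i) N O x) := rfl

omit hf in
lemma pullSec_map (i : ι) {O O' : S.Opens} (e : O' ⟶ O) {W : (X i).Opens} (hle : W ≤ (f i) ⁻¹ᵁ O') (x : Γ(N, O)) :
    pullSec (f i) N hle (N.presheaf.map e.op x) =
      pullSec (f i) N (hle.trans ((Opens.map (f i).base).map e).le) x := by
  rw [pullSec_eq, pullSec_eq, usec_map]
  exact map_map _ _ _

variable (hN : Coh.IsQCoh N)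

include hN

/-- Sections are determined by their pullbacks to an fpqc covering. -/
theorem sep {O : S.Opens} (x : Γ(N, O)) (hx : ∀ i, usec (f i) N O x = 0) : x = 0 := by
  haveI := flat_of_mem f hf
  refine eq_zero_of_locally O x fun p hp => ?_
  obtain ⟨V, hV, hpV, hVO⟩ := exists_isAffineOpen_mem_and_subset (U := O) (x := p) hp
  obtain ⟨m, φ, W, hW, hle, hcov⟩ := exists_cover f hf hV
  refine ⟨V, homOfLE hVO, hpV, (affine_sep_glue N f hN hV φ W hW hle hcov).1 _ fun j => ?_⟩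
  rw [pullSec_map, pullSec_eq, hx, map_zero]

theorem sep' {O : S.Opens} (x y : Γ(N, O)) (hx : ∀ i, usec (f i) N O x = usec (f i) N O y) : x = y :=
  sub_eq_zero.1 (sep f hf N hN _ fun i => by
    show ((Scheme.Modules.pullbackPushforwardAdjunction (f i)).unit.app N).app O (x - y) = 0
    exact (map_sub _ x y).trans (sub_eq_zero.2 (hx i)))

theorem glue_affine {O : S.Opens} (t : ∀ i, Γ((Scheme.Modules.pullback (f i)).obj N, (f i) ⁻¹ᵁ O))
    (ht : Compat f N O t) {V : S.Opens} (hV : IsAffineOpen V) (hVO : V ≤ O) :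
    ∃ x : Γ(N, V), ∀ i, usec (f i) N V x =
      ((Scheme.Modules.pullback (f i)).obj N).presheaf.map ((Opens.map (f i).base).map (homOfLE hVO)).op (t i) := by
  haveI := flat_of_mem f hf
  obtain ⟨m, φ, W, hW, hle, hcov⟩ := exists_cover f hf hV
  let res : ∀ i {U : (X i).Opens}, U ≤ (f i) ⁻¹ᵁ V → Γ((Scheme.Modules.pullback (f i)).obj N, U) := fun i U h =>
    ((Scheme.Modules.pullback (f i)).obj N).presheaf.map
      (homOfLE (h.trans ((Opens.map (f i).base).map (homOfLE hVO)).le)).op (t i)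
  obtain ⟨x, hx⟩ := (affine_sep_glue N f hN hV φ W hW hle hcov).2 (fun j => res (φ j) (hle j))
    fun Y j k a b q ha hb U hUa hUb => by
      simp only [res]
      rw [T_res, T_res]
      exact ht Y _ _ a b q ha hb U _ _
  refine ⟨x, fun i => sub_eq_zero.1 (eq_zero_of_locally _ _ fun p hp => ?_)⟩
  obtain ⟨W₀, hW₀, hpW₀, hle₀⟩ := exists_isAffineOpen_mem_and_subset (U := (f i) ⁻¹ᵁ V) (x := p) hp
  refine ⟨W₀, homOfLE hle₀, hpW₀, ?_⟩
  rw [map_sub, sub_eq_zero, ← pullSec_eq]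
  let φ' : Option (Fin m) → ι := fun o => o.elim i φ
  let W' : ∀ o, (X (φ' o)).Opens := fun o => match o with
    | none => W₀
    | some j => W j
  have hW' : ∀ o, IsAffineOpen (W' o) := fun o => match o with
    | none => hW₀
    | some j => hW j
  have hle' : ∀ o, W' o ≤ (f (φ' o)) ⁻¹ᵁ V := fun o => match o with
    | none => hle₀
    | some j => hle j
  have hcov' : ∀ y ∈ V, ∃ o, ∃ w ∈ W' o, (f (φ' o)).base w = y := fun y hy => by
    obtain ⟨j, w, hw, hwy⟩ := hcov y hy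
    exact ⟨some j, w, hw, hwy⟩
  obtain ⟨x', hx'⟩ := (affine_sep_glue N f hN hV φ' W' hW' hle' hcov').2 (fun o => res (φ' o) (hle' o))
    fun Y j k a b q ha hb U hUa hUb => by
      simp only [res]
      rw [T_res, T_res]
      exact ht Y _ _ a b q ha hb U _ _
  have hxx : x' = x := sub_eq_zero.1 ((affine_sep_glue N f hN hV φ W hW hle hcov).1 _ fun j => by
    rw [pullSec_eq]
    have : usec (f (φ j)) N V (x' - x) = usec (f (φ j)) N V x' - usec (f (φ j)) N V x := map_sub _ _ _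
    rw [this, map_sub, sub_eq_zero, ← pullSec_eq, ← pullSec_eq]
    exact (hx' (some j)).trans (hx j).symm)
  subst hxx
  refine (hx' none).trans ?_
  exact (map_map _ _ _).symm

/-- A compatible family of sections comes from the base. -/
theorem glue {O : S.Opens} (t : ∀ i, Γ((Scheme.Modules.pullback (f i)).obj N, (f i) ⁻¹ᵁ O))
    (ht : Compat f N O t) : ∃ x : Γ(N, O), ∀ i, usec (f i) N O x = t i := by
  let J := {V : S.affineOpens // V.1 ≤ O}
  choose y hy using fun V : J => glue_affine f hf N hN t ht V.1.2 V.2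
  let U : J → S.Opens := fun V => V.1.1
  have hcover : O ≤ iSup U := fun p hp => by
    obtain ⟨V, hV, hpV, hVO⟩ := exists_isAffineOpen_mem_and_subset (U := O) (x := p) hp
    exact Opens.mem_iSup.2 ⟨⟨⟨V, hV⟩, hVO⟩, hpV⟩
  have hcomp : TopCat.Presheaf.IsCompatible N.presheaf U y := fun V V' => sep' f hf N hN _ _ fun i => by
    rw [usec_map, usec_map, hy, hy]
    exact (map_map _ _ _).trans (map_map ((Opens.map (f i).base).map (Opens.infLERight (U V) (U V')))
      ((Opens.map (f i).base).map (homOfLE V'.2)) (t i)).symm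
  obtain ⟨x, hx, -⟩ := TopCat.Sheaf.existsUnique_gluing' ⟨N.presheaf, N.isSheaf⟩ U O
    (fun V => homOfLE V.2) hcover y hcomp
  refine ⟨x, fun i => sub_eq_zero.1 (eq_zero_of_locally _ _ fun p hp => ?_)⟩
  obtain ⟨V, hV, hpV, hVO⟩ := exists_isAffineOpen_mem_and_subset (U := O) (x := (f i).base p) hp
  refine ⟨(f i) ⁻¹ᵁ V, (Opens.map (f i).base).map (homOfLE hVO), hpV, ?_⟩
  rw [map_sub, sub_eq_zero, ← usec_map]
  exact (congrArg (usec (f i) N V) (hx ⟨⟨V, hV⟩, hVO⟩)).trans (hy ⟨⟨V, hV⟩, hVO⟩ i)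

end Groth.Agent.FpqcMod
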