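import Groth.Agent.FpqcMod.Glue
import Groth.Statements.S1129

/-!
# Morphisms of modules descend along fpqc coverings, the target being quasi-coherent
-/

universe u

set_option autoImplicit false
set_option backward.isDefEq.respectTransparency false
set_option backward.isDefEq.respectTransparency.types false
set_option linter.style.haveILetI false

open CategoryTheory CategoryTheory.Limits AlgebraicGeometry TopologicalSpace Opposite
open CategoryTheory.Pseudofunctor CategoryTheory.Pseudofunctor.LocallyDiscreteOpToCat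

namespace Groth.Agent.FpqcMod

open Groth.Agent.EtLC12.AssocUnit Groth.Agent.QCoh

variable {X Y S : Scheme.{u}} (M : S.Modules)

lemma mapComp_inv_app (a : Y ⟶ X) (f : X ⟶ S) :
    (Desc.modPF.{u}.mapComp f.op.toLoc a.op.toLoc).inv.toNatTrans.app M =
      (Scheme.Modules.pullbackComp a f).hom.app M := by
  simp [Desc.modPF]
  exact Category.id_comp _

lemma mapComp_hom_app (a : Y ⟶ X) (f : X ⟶ S) :
    (Desc.modPF.{u}.mapComp f.op.toLoc a.op.toLoc).hom.toNatTrans.app M =
      (Scheme.Modules.pullbackComp a f).inv.app M := by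
  simp [Desc.modPF]
  exact Category.comp_id _

lemma mapComp'_inv_app (a : Y ⟶ X) (f : X ⟶ S) (q : Y ⟶ S) (h : a ≫ f = q)
    (e : f.op.toLoc ≫ a.op.toLoc = q.op.toLoc) :
    (Desc.modPF.{u}.mapComp' f.op.toLoc a.op.toLoc q.op.toLoc e).inv.toNatTrans.app M = (τ M a f q h).hom := by
  subst h
  rw [show Desc.modPF.{u}.mapComp' f.op.toLoc a.op.toLoc (a ≫ f).op.toLoc e =
    Desc.modPF.{u}.mapComp f.op.toLoc a.op.toLoc from mapComp'_eq_mapComp _ _ _, mapComp_inv_app]
  simp [τ, Scheme.Modules.pullbackCongr]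

lemma mapComp'_hom_app (a : Y ⟶ X) (f : X ⟶ S) (q : Y ⟶ S) (h : a ≫ f = q)
    (e : f.op.toLoc ≫ a.op.toLoc = q.op.toLoc) :
    (Desc.modPF.{u}.mapComp' f.op.toLoc a.op.toLoc q.op.toLoc e).hom.toNatTrans.app M = (τ M a f q h).inv := by
  subst h
  rw [show Desc.modPF.{u}.mapComp' f.op.toLoc a.op.toLoc (a ≫ f).op.toLoc e =
    Desc.modPF.{u}.mapComp f.op.toLoc a.op.toLoc from mapComp'_eq_mapComp _ _ _, mapComp_hom_app]
  simp [τ, Scheme.Modules.pullbackCongr]

lemma ofObj_hom {ι : Type u} {Xs : ι → Scheme.{u}} (f : ∀ i, Xs i ⟶ S) (i j : ι)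
    (a : Y ⟶ Xs i) (b : Y ⟶ Xs j) (q : Y ⟶ S) (ha : a ≫ f i = q) (hb : b ≫ f j = q) :
    ((Desc.modPF.{u}.toDescentData f).obj M).hom q a b ha hb =
      (τ M a (f i) q ha).hom ≫ (τ M b (f j) q hb).inv := by
  show _ ≫ _ = _
  rw [mapComp'_inv_app M a (f i) q ha, mapComp'_hom_app M b (f j) q hb]

lemma map_pullSec {a : Y ⟶ X} {A B : X.Modules} (φ : A ⟶ B) {W : X.Opens} {U : Y.Opens} (hle : U ≤ a ⁻¹ᵁ W)
    (z : Γ(A, W)) : ((Scheme.Modules.pullback a).map φ).app U (pullSec a A hle z) = pullSec a B hle (φ.app W z) := by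
  have hn := congrArg (fun t : A ⟶ (Scheme.Modules.pushforward a).obj ((Scheme.Modules.pullback a).obj B) => t.app W z)
    ((Scheme.Modules.pullbackPushforwardAdjunction a).unit.naturality φ)
  refine (map_app_comm ((Scheme.Modules.pullback a).map φ) (homOfLE hle) _).trans ?_
  exact congrArg (((Scheme.Modules.pullback a).obj B).presheaf.map (homOfLE hle).op) hn.symm

variable {ι : Type u} {Xs : ι → Scheme.{u}} (f : ∀ i, Xs i ⟶ S)
  (hf : Presieve.ofArrows Xs f ∈ Scheme.fpqcPrecoverage S) (N : S.Modules)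

omit hf in
lemma map_app_usec (φ : M ⟶ N) (i : ι) (O : S.Opens) (x : Γ(M, O)) :
    ((Scheme.Modules.pullback (f i)).map φ).app ((f i) ⁻¹ᵁ O) (usec (f i) M O x) = usec (f i) N O (φ.app O x) :=
  (congrArg (fun t : M ⟶ (Scheme.Modules.pushforward (f i)).obj ((Scheme.Modules.pullback (f i)).obj N) => t.app O x)
    ((Scheme.Modules.pullbackPushforwardAdjunction (f i)).unit.naturality φ)).symm

include hf

theorem map_injective (hN : Coh.IsQCoh N) : Function.Injective ((Desc.modPF.{u}.toDescentData f).map : (M ⟶ N) → _) := by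
  intro φ φ' h
  refine Scheme.Modules.hom_ext _ _ fun O => ?_
  ext x
  refine sep' f hf N hN _ _ fun i => ?_
  have hi : (Scheme.Modules.pullback (f i)).map φ = (Scheme.Modules.pullback (f i)).map φ' :=
    congrArg (fun t => t.hom i) h
  rw [← map_app_usec M f N φ, ← map_app_usec M f N φ', hi]

theorem map_surjective (hN : Coh.IsQCoh N) : Function.Surjective ((Desc.modPF.{u}.toDescentData f).map : (M ⟶ N) → _) := by
  intro φ
  let φi : ∀ i, (Scheme.Modules.pullback (f i)).obj M ⟶ (Scheme.Modules.pullback (f i)).obj N := fun i => φ.hom i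
  have key : ∀ (Y : Scheme.{u}) (i j : ι) (a : Y ⟶ Xs i) (b : Y ⟶ Xs j) (q : Y ⟶ S)
      (ha : a ≫ f i = q) (hb : b ≫ f j = q),
      (τ M a (f i) q ha).inv ≫ (Scheme.Modules.pullback a).map (φi i) ≫ (τ N a (f i) q ha).hom =
        (τ M b (f j) q hb).inv ≫ (Scheme.Modules.pullback b).map (φi j) ≫ (τ N b (f j) q hb).hom := by
    intro Y i j a b q ha hb
    have := φ.comm q a b ha hb
    rw [ofObj_hom, ofObj_hom] at this
    change (Scheme.Modules.pullback a).map (φi i) ≫ _ = _ ≫ (Scheme.Modules.pullback b).map (φi j) at this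
    rw [Iso.inv_comp_eq, ← cancel_mono (τ N b (f j) q hb).inv]
    simp only [Category.assoc, Iso.hom_inv_id, Category.comp_id] at this ⊢
    exact this
  have hc : ∀ (O : S.Opens) (x : Γ(M, O)), Compat f N O fun i => (φi i).app _ (usec (f i) M O x) := by
    intro O x Y i j a b q ha hb U hUa hUb
    have hT : ∀ (k : ι) (c : Y ⟶ Xs k) (hc : c ≫ f k = q) (hU : U ≤ c ⁻¹ᵁ ((f k) ⁻¹ᵁ O)),
        T N c _ q hc hU ((φi k).app _ (usec (f k) M O x)) =
          ((τ M c (f k) q hc).inv ≫ (Scheme.Modules.pullback c).map (φi k) ≫ (τ N c (f k) q hc).hom).app U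
            (pullSec q M (show U ≤ q ⁻¹ᵁ O from hc ▸ hU) x) := by
      intro k c hc hU
      have h1 : pullSec (f k) M (le_refl ((f k) ⁻¹ᵁ O)) x = usec (f k) M O x := map_id' _ _
      have h2 : T M c _ q hc hU (usec (f k) M O x) = pullSec q M (show U ≤ q ⁻¹ᵁ O from hc ▸ hU) x := by
        rw [← h1]; exact T_pullSec M c _ q hc hU le_rfl x
      rw [← h2, T, T, ← map_pullSec (φi k) hU]
      exact congrArg (fun z => (τ N c (f k) q hc).hom.app U (((Scheme.Modules.pullback c).map (φi k)).app U z))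
        (congrArg (fun t : (Scheme.Modules.pullback c).obj ((Scheme.Modules.pullback (f k)).obj M) ⟶ _ =>
          t.app U (pullSec c _ hU (usec (f k) M O x))) (τ M c (f k) q hc).hom_inv_id).symm
    rw [hT i a ha hUa, hT j b hb hUb, key Y i j a b q ha hb]
  choose y hy using fun O x => glue f hf N hN _ (hc O x)
  let ψ : M ⟶ N := ⟨PresheafOfModules.homMk
    { app := fun O => AddCommGrpCat.ofHom (AddMonoidHom.mk' (y O.unop) fun x x' => sep' f hf N hN _ _ fun i => by
        have : usec (f i) N O.unop (y O.unop x + y O.unop x') =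
          usec (f i) N O.unop (y O.unop x) + usec (f i) N O.unop (y O.unop x') := map_add _ _ _
        rw [this, hy, hy, hy]
        exact (congrArg _ (map_add _ x x')).trans (map_add _ _ _))
      naturality := fun O O' e => by
        ext x
        refine sep' f hf N hN _ _ fun i => ?_
        show usec (f i) N O'.unop (y O'.unop (M.presheaf.map e.unop.op x)) =
          usec (f i) N O'.unop (N.presheaf.map e.unop.op (y O.unop x))
        rw [hy, usec_map, usec_map, hy, map_app_comm] }
    (fun O r x => sep' f hf N hN _ _ fun i => by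
      show usec (f i) N O.unop (y O.unop ((show Γ(S, O.unop) from r) • (show Γ(M, O.unop) from x))) =
        usec (f i) N O.unop ((show Γ(S, O.unop) from r) • y O.unop x)
      rw [hy]
      have hs : ∀ (r : Γ(S, O.unop)) (P : S.Modules) (z : Γ(P, O.unop)),
          usec (f i) P O.unop (r • z : Γ(P, O.unop)) = (f i).app O.unop r • usec (f i) P O.unop z := fun r P z =>
        Scheme.Modules.Hom.app_smul _ r z
      rw [hs, hs, hy, Scheme.Modules.Hom.app_smul])⟩
  refine ⟨ψ, DescentData.hom_ext fun i => ?_⟩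
  show (Scheme.Modules.pullback (f i)).map ψ = φi i
  refine ((Scheme.Modules.pullbackPushforwardAdjunction (f i)).homEquiv _ _).injective ?_
  rw [Adjunction.homEquiv_unit, Adjunction.homEquiv_unit]
  refine Scheme.Modules.hom_ext _ _ fun O => ?_
  ext x
  show ((Scheme.Modules.pullback (f i)).map ψ).app _ (usec (f i) M O x) = (φi i).app _ (usec (f i) M O x)
  rw [map_app_usec]
  exact hy O x i

end Groth.Agent.FpqcMod
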