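import Groth.Agent.ZClosLib.Basic
import Groth.Agent.FTDescent.Quotient
import Mathlib.RingTheory.Flat.FaithfullyFlat.Algebra

/-!
# Inverse images along surjective flat morphisms reflect isomorphisms of modules
-/

universe u

set_option autoImplicit false
set_option backward.isDefEq.respectTransparency false
set_option backward.isDefEq.respectTransparency.types false
set_option linter.style.haveILetI false

open CategoryTheory AlgebraicGeometry
open scoped TensorProduct

namespace Groth.Agent.FpqcMod

theorem bijective_of_extendScalars {R S : CommRingCat.{u}} (φ : R ⟶ S) (hφ : φ.hom.Flat) [IsLocalRing R]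
    [IsLocalRing S] [IsLocalHom φ.hom] {M N : ModuleCat.{u} R} (g : M ⟶ N)
    (h : IsIso ((ModuleCat.extendScalars φ.hom).map g)) : Function.Bijective g := by
  letI := φ.hom.toAlgebra
  haveI : IsLocalHom (algebraMap R S) := inferInstanceAs (IsLocalHom φ.hom)
  haveI : Module.Flat R S := hφ
  haveI : Module.FaithfullyFlat R S := Module.FaithfullyFlat.of_flat_of_isLocalHom
  have h1 : Function.Bijective ((ModuleCat.extendScalars φ.hom).map g) := ConcreteCategory.bijective_of_isIso _
  have h2 : Function.Bijective (g.hom.lTensor S) := h1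
  exact (Module.FaithfullyFlat.lTensor_bijective_iff_bijective R S g.hom).1 h2

theorem isIso_of_isIso_pullback {X Y : Scheme.{u}} (f : X ⟶ Y) [Flat f] [Surjective f] {M N : Y.Modules}
    (ψ : M ⟶ N) [IsIso ((Scheme.Modules.pullback f).map ψ)] : IsIso ψ := by
  refine ZClosLib.isIso_of_stalkMap_bijective ψ fun y => ?_
  obtain ⟨x, rfl⟩ := f.surjective y
  have h1 : IsIso ((Scheme.Modules.pullback f ⋙ DerSch.stalkFunctor X x).map ψ) :=
    inferInstanceAs (IsIso ((DerSch.stalkFunctor X x).map ((Scheme.Modules.pullback f).map ψ)))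
  have h2 := (NatIso.isIso_map_iff (KFlatLib.stalkPullbackIso f x) ψ).1 h1
  exact bijective_of_extendScalars (f.stalkMap x) (Flat.stalkMap f x) ((DerSch.stalkFunctor Y (f.base x)).map ψ) h2

end Groth.Agent.FpqcMod
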