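import Groth.Agent.FpqcMod.Eff.Main
import Groth.Agent.FpqcMod.Reflect

/-!
# Quasi-coherence descends along flat surjective quasi-compact morphisms
-/

universe u

set_option autoImplicit false
set_option backward.isDefEq.respectTransparency false
set_option backward.isDefEq.respectTransparency.types false
set_option linter.style.haveILetI false

open CategoryTheory AlgebraicGeometry
open CategoryTheory.Pseudofunctor

namespace Groth.Agent.FpqcMod

theorem isQCoh_of_isQCoh_pullback {X Y : Scheme.{u}} (f : X ⟶ Y) [Flat f] [Surjective f] [QuasiCompact f]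
    (M : Y.Modules) (h : Coh.IsQCoh ((Scheme.Modules.pullback f).obj M)) : Coh.IsQCoh M := by
  let F : ∀ _ : PUnit.{u + 1}, X ⟶ Y := fun _ => f
  have hf : Presieve.ofArrows (fun _ : PUnit.{u + 1} => X) F ∈ Scheme.fpqcPrecoverage Y := by
    rw [Presieve.ofArrows_pUnit]
    exact f.singleton_mem_fpqcPrecoverage
  obtain ⟨N, hN, ⟨e⟩⟩ := exists_descended hf ((Desc.modPF.{u}.toDescentData F).obj M) fun _ => h
  obtain ⟨ψ, hψ⟩ := map_surjective M F hf N hN e.inv
  have h1 : (Scheme.Modules.pullback f).map ψ = e.inv.hom PUnit.unit :=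
    congrArg (fun t => t.hom PUnit.unit) hψ
  haveI : IsIso (e.inv.hom PUnit.unit) :=
    ⟨e.hom.hom PUnit.unit, congrArg (fun t => DescentData.Hom.hom t PUnit.unit) e.inv_hom_id,
      congrArg (fun t => DescentData.Hom.hom t PUnit.unit) e.hom_inv_id⟩
  haveI : IsIso ((Scheme.Modules.pullback f).map ψ) := by rw [h1]; assumption
  haveI := isIso_of_isIso_pullback f ψ
  exact (QCoh.isQCoh_iff_iso (asIso ψ)).2 hN

end Groth.Agent.FpqcMod
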